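import Cfsg.Agent.Helper61.Sr.Basic

/-!
# (DS1) for helper61's S3572 skeleton (helper29): the reflection coefficients of `ind T * ind T`
are `p`-periodic when the rotation part of `T` is
-/

set_option autoImplicit false
set_option linter.unusedSectionVars false
set_option linter.unusedVariables false

namespace Cfsg.Agent.Helper29.Sr

open Finset DihedralGroup Cfsg.Agent.Helper61.Dih Cfsg.Agent.Helper61.Sr

variable {n : ℕ} [NeZero n]

/-- the shift of the rotations by `u`, fixing the reflections -/
def DS1_shift (u : ZMod n) : DihedralGroup n → DihedralGroup n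
  | r i => r (i + u)
  | sr j => sr j

theorem DS1_shift_shift (u : ZMod n) (c : DihedralGroup n) :
    DS1_shift (-u) (DS1_shift u c) = c := by
  cases c with
  | r i => show r (i + u + -u) = r i; rw [add_neg_cancel_right]
  | sr j => rfl

/-- (DS1) -/
theorem refPer_sq (T : Finset (DihedralGroup n)) (hinv : ∀ d ∈ T, d⁻¹ ∈ T) (p : ℕ)
    (hA : Per p (rotPart T)) : RefPer p (ind T * ind T) := by
  classical
  intro j u hu
  have hu' : p • (-u) = 0 := by rw [smul_neg, hu, neg_zero]
  have hper : ∀ (x v : ZMod n), p • v = 0 → (r x ∈ T ↔ r (x + v) ∈ T) := by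
    intro x v hv
    have := hA x v hv
    rwa [mem_rotPart, mem_rotPart] at this
  -- the key equivalence
  have key : ∀ (v : ZMod n), p • v = 0 → ∀ (x : ZMod n) (c : DihedralGroup n),
      (c ∈ T ∧ c⁻¹ * sr x ∈ T) → (DS1_shift (-v) c ∈ T ∧ (DS1_shift (-v) c)⁻¹ * sr (x + v) ∈ T) := by
    intro v hv x c hc
    have hv' : p • (-v) = 0 := by rw [smul_neg, hv, neg_zero]
    cases c with
    | r i =>
      obtain ⟨h1, h2⟩ := hc
      refine ⟨(hper i (-v) hv').1 h1, ?_⟩
      show (r (i + -v))⁻¹ * sr (x + v) ∈ T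
      rw [inv_r, r_mul_sr] at h2 ⊢
      have e : x + v - -(i + -v) = x - -i := by ring
      rw [e]
      exact h2
    | sr k =>
      obtain ⟨h1, h2⟩ := hc
      refine ⟨h1, ?_⟩
      show (sr k)⁻¹ * sr (x + v) ∈ T
      rw [inv_sr, sr_mul_sr] at h2 ⊢
      have e : x + v - k = (x - k) + v := by ring
      rw [e]
      exact (hper (x - k) v hv).1 h2
  rw [coeff_ind_mul_ind, coeff_ind_mul_ind]
  congr 1
  apply Finset.card_bij' (fun c _ => DS1_shift (-u) c) (fun c _ => DS1_shift (- -u) c)
  · intro c hc
    rw [Finset.mem_filter] at hc ⊢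
    exact key u hu j c hc
  · intro c hc
    rw [Finset.mem_filter] at hc ⊢
    have := key (-u) hu' (j + u) c hc
    rwa [add_neg_cancel_right] at this
  · intro c _
    exact DS1_shift_shift (-u) c
  · intro c _
    have := DS1_shift_shift (- -u) c
    rw [neg_neg] at this ⊢
    rw [neg_neg] at this
    exact this

end Cfsg.Agent.Helper29.Sr
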