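import Cfsg.Agent.Helper61.Sr.Basic

/-!
# (DS4) + (DS8) for helper61's S3572 skeleton (helper29): the counting identity of a difference set
in a dihedral group, and `|T| = |rotPart T| + |refPart T|`
-/

set_option autoImplicit false

namespace Cfsg.Agent.Helper29.Sr

open Finset DihedralGroup Cfsg.Agent.Helper61.Dih Cfsg.Agent.Helper61.Sr

variable {n : ℕ} [NeZero n]

/-- double counting: the sum of the coefficients of `ind T * ind T` -/
theorem DS4_sum_card (T : Finset (DihedralGroup n)) :
    ∑ y : DihedralGroup n, (T.filter fun c => c⁻¹ * y ∈ T).card = T.card ^ 2 := by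
  classical
  have h1 : ∀ y : DihedralGroup n, (T.filter fun c => c⁻¹ * y ∈ T).card =
      ∑ c ∈ T, if c⁻¹ * y ∈ T then 1 else 0 := fun y => Finset.card_filter _ _
  simp only [h1]
  rw [Finset.sum_comm]
  have h2 : ∀ c ∈ T, (∑ y : DihedralGroup n, if c⁻¹ * y ∈ T then 1 else 0) = T.card := by
    intro c _
    rw [← Finset.card_filter]
    apply Finset.card_bij (fun y _ => c⁻¹ * y)
    · intro y hy
      exact (Finset.mem_filter.1 hy).2
    · intro y _ y' _ h
      exact mul_left_cancel h
    · intro t ht
      exact ⟨c * t, Finset.mem_filter.2 ⟨Finset.mem_univ _, by rwa [inv_mul_cancel_left]⟩,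
        inv_mul_cancel_left c t⟩
  rw [Finset.sum_congr rfl h2, Finset.sum_const, smul_eq_mul, sq]

/-- (DS4) -/
theorem ds_count (T : Finset (DihedralGroup n)) (hinv : ∀ d ∈ T, d⁻¹ ∈ T) (lam : ℕ)
    (h : IsDs T lam) : T.card ^ 2 = T.card + lam * (2 * n - 1) := by
  classical
  have hl : ∀ y : DihedralGroup n, y ≠ 1 → (T.filter fun c => c⁻¹ * y ∈ T).card = lam := by
    intro y hy
    have := h y hy
    rw [coeff_ind_mul_ind] at this
    exact_mod_cast this
  have h1 : (T.filter fun c => c⁻¹ * (1 : DihedralGroup n) ∈ T).card = T.card := by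
    congr 1
    apply Finset.filter_true_of_mem
    intro c hc
    rw [mul_one]
    exact hinv c hc
  rw [← DS4_sum_card T, ← Finset.add_sum_erase Finset.univ _ (Finset.mem_univ (1 : DihedralGroup n)),
    h1]
  congr 1
  have h2 : ∀ y ∈ (Finset.univ : Finset (DihedralGroup n)).erase 1,
      (T.filter fun c => c⁻¹ * y ∈ T).card = lam := fun y hy => hl y (Finset.ne_of_mem_erase hy)
  rw [Finset.sum_congr rfl h2, Finset.sum_const, Finset.card_erase_of_mem (Finset.mem_univ _),
    Finset.card_univ, DihedralGroup.card, smul_eq_mul, mul_comm]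

/-- (DS8) -/
theorem card_rot_add_ref (T : Finset (DihedralGroup n)) :
    (rotPart T).card + (refPart T).card = T.card := by
  classical
  have hr : Function.Injective (r : ZMod n → DihedralGroup n) := fun a b h => by
    injection h
  have hs : Function.Injective (sr : ZMod n → DihedralGroup n) := fun a b h => by
    injection h
  have hT : T = (rotPart T).image r ∪ (refPart T).image sr := by
    ext c
    rw [Finset.mem_union, Finset.mem_image, Finset.mem_image]
    constructor
    · intro hc
      cases c with
      | r i => exact Or.inl ⟨i, mem_rotPart.2 hc, rfl⟩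
      | sr j => exact Or.inr ⟨j, mem_refPart.2 hc, rfl⟩
    · rintro (⟨i, hi, rfl⟩ | ⟨j, hj, rfl⟩)
      · exact mem_rotPart.1 hi
      · exact mem_refPart.1 hj
  have hd : Disjoint ((rotPart T).image r) ((refPart T).image sr) := by
    rw [Finset.disjoint_left]
    intro c h1 h2
    obtain ⟨i, -, rfl⟩ := Finset.mem_image.1 h1
    obtain ⟨j, -, hj⟩ := Finset.mem_image.1 h2
    cases hj
  conv_rhs => rw [hT]
  rw [Finset.card_union_of_disjoint hd, Finset.card_image_of_injective _ hr,
    Finset.card_image_of_injective _ hs]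

end Cfsg.Agent.Helper29.Sr
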